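/-
`m` classes of involutions in `PΩ_{2m+1}(F)`, odd characteristic.
-/
import Cfsg.Agent.Lib.Orth.Simple
import Cfsg.Agent.Lib.Orth.Models

set_option autoImplicit false
set_option linter.unusedSectionVars false

namespace Cfsg.Agent.InvolCount

open Cfsg Cfsg.Agent.Orth Module
open QuadraticMap (polar)

variable {ι : Type} [Fintype ι] [DecidableEq ι] {F : Type*} [Field F] [Fintype F]
  {Q : QuadraticForm F (ι → F)}

/-- An orthogonal family of vectors of norm `1`. -/
theorem exists_unit_family (hQ : Q.polarBilin.Nondegenerate) (h2 : (2 : F) ≠ 0) :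
    ∀ n, n + 1 ≤ Fintype.card ι →
      ∃ v : Fin n → ι → F, (∀ i, Q (v i) = 1) ∧ ∀ i j, i ≠ j → polar ⇑Q (v i) (v j) = 0 := by
  intro n
  induction n with
  | zero => exact fun _ => ⟨Fin.elim0, fun i => i.elim0, fun i => i.elim0⟩
  | succ n ih =>
    intro hn
    obtain ⟨v, hv1, hv0⟩ := ih (by omega)
    have hvv : ∀ i j, polar ⇑Q (v i) (v j) = if i = j then 2 else 0 := fun i j => by
      split_ifs with h
      · rw [h, pl_self, hv1, mul_one]
      · exact hv0 i j h
    have hnd : ∀ x ∈ orthFam Q v, x ≠ 0 → ∃ y ∈ orthFam Q v, polar ⇑Q x y ≠ 0 := by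
      intro x hx hx0
      obtain ⟨y, hy⟩ := exists_polar_ne hQ hx0
      refine ⟨y - ∑ i, (polar ⇑Q (v i) y / 2) • v i, mem_orthFam.2 fun j => ?_, ?_⟩
      · show Q.polarBilin (v j) _ = 0
        rw [map_sub, map_sum]
        simp only [map_smul, QuadraticMap.polarBilin_apply_apply, hvv, smul_eq_mul, mul_ite, mul_zero,
          Finset.sum_ite_eq, Finset.mem_univ, if_true]
        rw [div_mul_cancel₀ _ h2, sub_self]
      · show Q.polarBilin x _ ≠ 0
        rw [map_sub, map_sum]
        simp only [map_smul, QuadraticMap.polarBilin_apply_apply]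
        have : ∀ i, polar ⇑Q x (v i) = 0 := fun i => by rw [pl_comm]; exact mem_orthFam.1 hx i
        simpa [this] using hy
    have hdim := card_le_finrank_orthFam (Q := Q) v
    obtain ⟨x, hx, hx1⟩ := exists_Q_eq_in (Q := Q) (orthFam Q v) hnd (by omega) 1
    refine ⟨Fin.snoc v x, fun i => ?_, fun i j => ?_⟩
    · refine Fin.lastCases ?_ (fun i => ?_) i <;> simp [hx1, hv1]
    · refine Fin.lastCases ?_ (fun i => ?_) i <;> refine Fin.lastCases ?_ (fun j => ?_) j <;>
        intro hij
      · exact absurd rfl hij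
      · simp only [Fin.snoc_last, Fin.snoc_castSucc]; rw [pl_comm]; exact mem_orthFam.1 hx j
      · simp only [Fin.snoc_last, Fin.snoc_castSucc]; exact mem_orthFam.1 hx i
      · simp only [Fin.snoc_castSucc]; exact hv0 i j fun e => hij (congrArg Fin.castSucc e)

theorem exists_involutions_aux (m : ℕ) (hm : 2 ≤ m) (h2 : (2 : F) ≠ 0)
    (hQ : Q.polarBilin.Nondegenerate) (hcard : Fintype.card ι = 2 * m + 1) :
    ∃ f : Fin m → POmega F ⇑Q,
      (∀ k, orderOf (f k) = 2) ∧ ∀ k l, IsConj (f k) (f l) → k = l := by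
  classical
  have hG : Good Q := Good.of_two_ne_zero hQ h2
  obtain ⟨v, hv1, hv0⟩ := exists_unit_family hQ h2 (2 * m) (by omega)
  have hvne : ∀ i, Q (v i) ≠ 0 := fun i => by rw [hv1]; exact one_ne_zero
  let r : ℕ → IsoGrp Q := fun n => if h : n < 2 * m then refl Q (v ⟨n, h⟩) else 1
  let g : ℕ → IsoGrp Q := fun k => Nat.rec 1 (fun j acc => acc * (r (2 * j) * r (2 * j + 1))) k
  have gs : ∀ k, g (k + 1) = g k * (r (2 * k) * r (2 * k + 1)) := fun k => rfl
  have hrv : ∀ n i, ap (r n) (v i) = if (i : ℕ) = n then -v i else v i := by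
    intro n i
    simp only [r]
    split_ifs with h hi hi
    · obtain rfl : i = ⟨n, h⟩ := Fin.ext hi
      exact refl_ap_self _ (hvne _)
    · exact refl_ap_of_orth _ (hv0 ⟨n, h⟩ i fun e => hi (by rw [← e]))
    · exact absurd (hi ▸ i.2) h
    · simp
  have hgv : ∀ k i, ap (g k) (v i) = if (i : ℕ) < 2 * k then -v i else v i := by
    intro k
    induction k with
    | zero => intro i; simp [g]
    | succ k ih =>
      intro i
      rw [gs, ap_mul, ap_mul, hrv]
      by_cases h1 : (i : ℕ) = 2 * k + 1
      · rw [if_pos h1, map_neg, hrv, if_neg (by omega), map_neg, ih, if_neg (by omega), if_pos (by omega)]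
      · rw [if_neg h1, hrv]
        by_cases h3 : (i : ℕ) = 2 * k
        · rw [if_pos h3, map_neg, ih, if_neg (by omega), if_pos (by omega)]
        · rw [if_neg h3, ih]
          exact if_congr (by omega) rfl rfl
  have hgz : ∀ k z, (∀ i, polar ⇑Q (v i) z = 0) → ap (g k) z = z := by
    intro k z hz
    have hr : ∀ n, ap (r n) z = z := fun n => by
      simp only [r]
      split_ifs
      · exact refl_ap_of_orth _ (hz _)
      · simp
    induction k with
    | zero => simp [g]
    | succ k ih => rw [gs, ap_mul, ap_mul, hr, hr, ih]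
  have hvv : ∀ i j, polar ⇑Q (v i) (v j) = if i = j then 2 else 0 := fun i j => by
    split_ifs with h
    · rw [h, pl_self, hv1, mul_one]
    · exact hv0 i j h
  have hdec : ∀ x, ∀ i, polar ⇑Q (v i) (x - ∑ j, (polar ⇑Q (v j) x / 2) • v j) = 0 := by
    intro x i
    show Q.polarBilin (v i) _ = 0
    rw [map_sub, map_sum]
    simp only [map_smul, QuadraticMap.polarBilin_apply_apply, hvv, smul_eq_mul, mul_ite, mul_zero,
      Finset.sum_ite_eq, Finset.mem_univ, if_true]
    rw [div_mul_cancel₀ _ h2, sub_self]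
  have hext : ∀ a b : IsoGrp Q, (∀ i, ap a (v i) = ap b (v i)) →
      (∀ z, (∀ i, polar ⇑Q (v i) z = 0) → ap a z = ap b z) → a = b := by
    intro a b h1 h3
    refine ext_ap fun x => ?_
    have := h3 _ (hdec x)
    rw [map_sub, map_sub, map_sum, map_sum, Finset.sum_congr rfl (g := fun j =>
      ap b ((polar ⇑Q (v j) x / 2) • v j)) fun j _ => by rw [map_smul, map_smul, h1]] at this
    exact sub_left_inj.1 this
  have hsq : ∀ k, g k * g k = 1 := fun k => hext _ _
    (fun i => by
      rw [ap_mul, hgv, ap_one]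
      split_ifs with h <;> simp [hgv, h])
    (fun z hz => by rw [ap_mul, hgz k z hz, hgz k z hz, ap_one])
  have hmem : ∀ k, k ≤ m → g k ∈ Omega F ⇑Q := by
    intro k
    induction k with
    | zero => exact fun _ => one_mem _
    | succ k ih =>
      intro hk
      rw [gs]
      refine mul_mem (ih (by omega)) ((mem_omega_iff hG _).2 ⟨?_, ?_⟩)
      · simp only [r, dif_pos (show 2 * k < 2 * m by omega), dif_pos (show 2 * k + 1 < 2 * m by omega)]
        rw [dick_mul hG, dick_refl hQ (hvne _), dick_refl hQ (hvne _)]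
        norm_num
      · simp only [r, dif_pos (show 2 * k < 2 * m by omega), dif_pos (show 2 * k + 1 < 2 * m by omega)]
        rw [spin_mul hG, spin_refl hQ (hvne _), spin_refl hQ (hvne _), hv1, hv1, map_one, one_mul]
  -- the `-1` spaces
  have hli : LinearIndependent F v := by
    rw [Fintype.linearIndependent_iff]
    intro c hc i
    have h := congrArg (Q.polarBilin (v i)) hc
    simp only [map_sum, map_smul, map_zero, QuadraticMap.polarBilin_apply_apply, hvv, smul_eq_mul,
      mul_ite, mul_zero, Finset.sum_ite_eq, Finset.mem_univ, if_true] at h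
    exact (mul_eq_zero.1 h).resolve_right h2
  have hres : ∀ k, k ≤ m → finrank F (resSpace (g k)) = 2 * k := by
    intro k hk
    have hspan : resSpace (g k) =
        Submodule.span F (Set.range fun i : Fin (2 * k) => v (Fin.castLE (by omega) i)) := by
      apply le_antisymm
      · rintro w ⟨x, rfl⟩
        rw [show x = (x - ∑ j, (polar ⇑Q (v j) x / 2) • v j) + ∑ j, (polar ⇑Q (v j) x / 2) • v j by abel,
          map_add]
        refine add_mem ?_ ?_
        · rw [LinearMap.sub_apply, LinearMap.id_apply, hgz k _ (hdec x), sub_self]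
          exact zero_mem _
        · rw [map_sum]
          refine Submodule.sum_mem _ fun j _ => ?_
          rw [map_smul]
          refine Submodule.smul_mem _ _ ?_
          rw [LinearMap.sub_apply, LinearMap.id_apply, hgv]
          split_ifs with h
          · exact sub_mem (neg_mem (Submodule.subset_span ⟨⟨j, h⟩, rfl⟩))
              (Submodule.subset_span ⟨⟨j, h⟩, rfl⟩)
          · simp
      · rw [Submodule.span_le]
        rintro _ ⟨i, rfl⟩
        refine ⟨(-(2 : F)⁻¹) • v (Fin.castLE (by omega) i), ?_⟩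
        rw [map_smul, LinearMap.sub_apply, LinearMap.id_apply, hgv, if_pos (by simp), ← neg_add',
          ← two_smul F, smul_neg, smul_smul, neg_mul, inv_mul_cancel₀ h2, neg_one_smul, neg_neg]
    rw [hspan]
    exact (finrank_span_eq_card (hli.comp _ (Fin.castLE_injective _))).trans (Fintype.card_fin _)
  have hinv : ∀ a h : IsoGrp Q, finrank F (resSpace (h * a * h⁻¹)) = finrank F (resSpace a) := by
    intro a h
    have : resSpace (h * a * h⁻¹) = (resSpace a).map (ap h) := by
      ext w
      constructor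
      · rintro ⟨x, rfl⟩
        exact ⟨_, sub_mem_resSpace a (ap h⁻¹ x), by simp⟩
      · rintro ⟨_, ⟨x, rfl⟩, rfl⟩
        exact ⟨ap h x, by simp⟩
    rw [this]
    exact (Submodule.equivMapOfInjective _ (fun _ _ => ap_inj h) _).finrank_eq.symm
  have hE : eichGen Q ≤ Omega F ⇑Q := (omega_eq_eichGen hG (by omega) (.inr (by omega))).ge
  have hcenter : ∀ c : ↥(Omega F ⇑Q), c ∈ Subgroup.center ↥(Omega F ⇑Q) → c = 1 := by
    intro c hc
    obtain ⟨a, ha, hca⟩ := (mem_center_omega_iff hQ (by omega) hE c).1 hc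
    rcases mul_self_eq_one_iff.1 ha with rfl | rfl
    · exact Subtype.ext (ext_ap fun x => by simp [hca])
    · exfalso
      have htop : resSpace (c : IsoGrp Q) = ⊤ := Submodule.eq_top_iff'.2 fun w =>
        ⟨(-(2 : F)⁻¹) • w, by
          rw [map_smul, LinearMap.sub_apply, LinearMap.id_apply, hca, neg_one_smul, ← neg_add',
            ← two_smul F, smul_neg, smul_smul, neg_mul, inv_mul_cancel₀ h2, neg_one_smul, neg_neg]⟩
      have hd := ((mem_omega_iff hG _).1 c.2).1
      rw [dick, htop, finrank_top, finrank_fintype_fun_eq_card, hcard, pow_succ, pow_mul] at hd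
      norm_num at hd
  have hinj : Function.Injective (QuotientGroup.mk' (Subgroup.center ↥(Omega F ⇑Q))) := by
    rw [← MonoidHom.ker_eq_bot_iff, QuotientGroup.ker_mk', eq_bot_iff]
    exact fun c hc => Subgroup.mem_bot.2 (hcenter c hc)
  refine ⟨fun k => QuotientGroup.mk' _ ⟨g ((k : ℕ) + 1), hmem _ k.2⟩, fun k => ?_, fun k l hkl => ?_⟩
  · refine orderOf_eq_prime ?_ ?_
    · beta_reduce
      rw [← map_pow, ← map_one (QuotientGroup.mk' (Subgroup.center ↥(Omega F ⇑Q)))]
      exact congrArg _ (Subtype.ext (by rw [Subgroup.coe_pow, sq]; exact hsq ((k : ℕ) + 1)))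
    · intro h
      rw [← map_one (QuotientGroup.mk' (Subgroup.center ↥(Omega F ⇑Q)))] at h
      have h' : g ((k : ℕ) + 1) = 1 := congrArg Subtype.val (hinj h)
      have := hres _ k.2
      rw [h', resSpace_one, finrank_bot] at this
      omega
  · obtain ⟨h, hh⟩ := isConj_iff.1 hkl
    obtain ⟨h, rfl⟩ := QuotientGroup.mk'_surjective _ h
    beta_reduce at hh
    rw [← map_inv, ← map_mul, ← map_mul] at hh
    have h' : (h : IsoGrp Q) * g ((k : ℕ) + 1) * (h : IsoGrp Q)⁻¹ = g ((l : ℕ) + 1) :=
      congrArg Subtype.val (hinj hh)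
    have := hinv (g ((k : ℕ) + 1)) (h : IsoGrp Q)
    rw [h', hres _ k.2, hres _ l.2] at this
    exact Fin.ext (by omega)

/-- `PΩ_{2m+1}` has `m` pairwise non-conjugate involutions. -/
theorem exists_involutions (m : ℕ) (hm : 2 ≤ m) (h2 : (2 : F) ≠ 0) :
    ∃ f : Fin m → POmega F (quadFormOdd m F),
      (∀ k, orderOf (f k) = 2) ∧ ∀ k l, IsConj (f k) (f l) → k = l := by
  classical
  exact exists_involutions_aux (Q := quadOdd m F) m hm h2 (quadOdd_nondeg m h2) (by simp; omega)

end Cfsg.Agent.InvolCount
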