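/-
Classes of involutions of `PSp_{2d}(F)`, odd characteristic, bounded by normal forms.

* `SympFam`, `isConj_of_fam` : conjugacy through adapted symplectic bases
* `exists_key` : a key in `Option (Fin (d / 2))` determining the class of an involution
-/
import Cfsg.Agent.Lib.SympInvolution.Matrix
import Cfsg.Agent.Lib.GLOrder.Symplectic

set_option autoImplicit false
set_option linter.unusedSectionVars false
set_option quotPrecheck false

namespace Cfsg.Agent.InvolCount

open Matrix

variable {F : Type*} [Field F] {d : ℕ}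

local notation "V" => (Fin d ⊕ Fin d → F)
local notation "Sp" => ↥(Matrix.symplecticGroup (Fin d) F)
local notation "Bs" => SympInvolution.sympBilin d F

/-- A hyperbolic basis, indexed by `Fin d`. -/
structure SympFam (e w : Fin d → V) : Prop where
  ee : ∀ i j, Bs (e i) (e j) = 0
  ww : ∀ i j, Bs (w i) (w j) = 0
  ew : ∀ i j, Bs (e i) (w j) = if i = j then 1 else 0

theorem sympBilin_alt : (Bs).IsAlt := fun v => Linear.sympForm_self v

/-- The coordinate map of a family. -/
noncomputable def famLin (e w : Fin d → V) : V →ₗ[F] V :=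
  Fintype.linearCombination F (Sum.elim e w)

theorem famLin_inl (e w : Fin d → V) (i : Fin d) : famLin e w (Pi.single (.inl i) 1) = e i := by
  simp [famLin, Fintype.linearCombination_apply_single]

theorem famLin_inr (e w : Fin d → V) (i : Fin d) : famLin e w (Pi.single (.inr i) 1) = w i := by
  simp [famLin, Fintype.linearCombination_apply_single]

theorem gram {e w : Fin d → V} (h : SympFam e w) (u v : V) :
    Bs (famLin e w u) (famLin e w v) = ∑ i, (u (.inl i) * v (.inr i) - u (.inr i) * v (.inl i)) := by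
  have hwe : ∀ i j, Bs (w i) (e j) = if j = i then -1 else 0 := by
    intro i j
    rw [← LinearMap.IsAlt.neg (sympBilin_alt (F := F) (d := d)), h.ew]
    split_ifs <;> simp
  simp only [famLin, Fintype.linearCombination_apply, Fintype.sum_sum_type, Sum.elim_inl, Sum.elim_inr,
    map_add, map_sum, map_smul, LinearMap.add_apply, LinearMap.sum_apply, LinearMap.smul_apply,
    smul_eq_mul, h.ee, h.ww, h.ew, hwe, mul_zero, Finset.sum_const_zero, mul_ite, mul_one, mul_neg,
    Finset.sum_ite_eq, Finset.sum_ite_eq', Finset.mem_univ, if_true, add_zero, zero_add]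
  rw [← Finset.sum_add_distrib]
  exact Finset.sum_congr rfl fun i _ => by ring

theorem famLin_bijective {e w : Fin d → V} (h : SympFam e w) : Function.Bijective (famLin e w) := by
  have hinj : Function.Injective (famLin e w) := by
    refine (injective_iff_map_eq_zero _).2 fun u hu => ?_
    funext k
    rcases k with i | i
    · have := gram h u (Pi.single (.inr i) 1)
      rw [hu, map_zero, LinearMap.zero_apply] at this
      simpa [Pi.single_apply] using this.symm
    · have := gram h u (Pi.single (.inl i) 1)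
      rw [hu, map_zero, LinearMap.zero_apply] at this
      simpa [Pi.single_apply] using this.symm
  exact ⟨hinj, LinearMap.injective_iff_surjective.1 hinj⟩

/-- The action of a symplectic matrix. -/
noncomputable def act (s : Sp) : V →ₗ[F] V :=
  Matrix.toLin' (s : Matrix (Fin d ⊕ Fin d) (Fin d ⊕ Fin d) F)

/-- Two symplectic matrices with the same shape on hyperbolic bases are conjugate. -/
theorem isConj_of_fam {s s' : Sp} {e w e' w' : Fin d → V} (h : SympFam e w) (h' : SympFam e' w')
    (a b c f : Fin d → F)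
    (hse : ∀ i, act s (e i) = a i • e i + b i • w i) (hsw : ∀ i, act s (w i) = c i • e i + f i • w i)
    (hse' : ∀ i, act s' (e' i) = a i • e' i + b i • w' i)
    (hsw' : ∀ i, act s' (w' i) = c i • e' i + f i • w' i) : IsConj s s' := by
  let Φ := LinearEquiv.ofBijective _ (famLin_bijective h)
  let T : V →ₗ[F] V := (famLin e' w').comp Φ.symm.toLinearMap
  have hT : ∀ u v, Cfsg.sympForm d F (T u) (T v) = Cfsg.sympForm d F u v := by
    intro u v
    obtain ⟨u, rfl⟩ := (famLin_bijective h).2 u
    obtain ⟨v, rfl⟩ := (famLin_bijective h).2 v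
    have e1 : ∀ x, Φ.symm (famLin e w x) = x := fun x => Φ.symm_apply_apply x
    simp only [T, LinearMap.comp_apply, LinearEquiv.coe_coe, e1]
    rw [← SympInvolution.sympBilin_apply, ← SympInvolution.sympBilin_apply, gram h, gram h']
  have he : ∀ i, T (e i) = e' i := by
    intro i
    rw [← famLin_inl e w i]
    show famLin e' w' (Φ.symm (Φ (Pi.single (.inl i) 1))) = e' i
    rw [Φ.symm_apply_apply, famLin_inl]
  have hw : ∀ i, T (w i) = w' i := by
    intro i
    rw [← famLin_inr e w i]
    show famLin e' w' (Φ.symm (Φ (Pi.single (.inr i) 1))) = w' i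
    rw [Φ.symm_apply_apply, famLin_inr]
  let P : Sp := ⟨LinearMap.toMatrix' T, Linear.mem_symplecticGroup_iff.2 fun u v => by
    rw [LinearMap.toMatrix'_mulVec, LinearMap.toMatrix'_mulVec]; exact hT u v⟩
  refine isConj_iff.2 ⟨P, mul_inv_eq_iff_eq_mul.2 (Subtype.ext ?_)⟩
  apply (Matrix.toLin' (R := F) (m := Fin d ⊕ Fin d) (n := Fin d ⊕ Fin d)).injective
  show Matrix.toLin' (LinearMap.toMatrix' T * s.1) = Matrix.toLin' (s'.1 * LinearMap.toMatrix' T)
  rw [Matrix.toLin'_mul, Matrix.toLin'_mul, Matrix.toLin'_toMatrix']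
  refine LinearMap.ext fun v => ?_
  obtain ⟨u, rfl⟩ := (famLin_bijective h).2 v
  have key : (T.comp (act s)).comp (famLin e w) = ((act s').comp T).comp (famLin e w) := by
    refine (Pi.basisFun F (Fin d ⊕ Fin d)).ext fun k => ?_
    rw [Pi.basisFun_apply]
    rcases k with i | i
    · simp only [LinearMap.comp_apply, famLin_inl, hse, map_add, map_smul, he, hw, hse']
    · simp only [LinearMap.comp_apply, famLin_inr, hsw, map_add, map_smul, he, hw, hsw']
  exact LinearMap.congr_fun key u

/-- The sign pattern with `k` negative pairs. -/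
def sgn (k : ℕ) (i : Fin d) : F := if (i : ℕ) < k then -1 else 1

/-- Normal forms of lifts of involutions. -/
def HasKey (x : Cfsg.PSp d F) : Option (Fin (d / 2)) → Prop
  | none => ∃ (s : Sp) (e w : Fin d → V), QuotientGroup.mk' _ s = x ∧ SympFam e w ∧
      (∀ i, act s (e i) = w i) ∧ ∀ i, act s (w i) = -e i
  | some k => ∃ (s : Sp) (e w : Fin d → V), QuotientGroup.mk' _ s = x ∧ SympFam e w ∧
      (∀ i, act s (e i) = (sgn (F := F) ((k : ℕ) + 1) i) • e i) ∧
      ∀ i, act s (w i) = (sgn (F := F) ((k : ℕ) + 1) i) • w i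

theorem isConj_of_key {x y : Cfsg.PSp d F} {k : Option (Fin (d / 2))} (hx : HasKey x k)
    (hy : HasKey y k) : IsConj x y := by
  rcases k with _ | k
  · obtain ⟨s, e, w, rfl, h, h1, h2⟩ := hx
    obtain ⟨s', e', w', rfl, h', h1', h2'⟩ := hy
    exact MonoidHom.map_isConj _ (isConj_of_fam h h' (fun _ => 0) (fun _ => 1) (fun _ => -1)
      (fun _ => 0) (fun i => by simp [h1]) (fun i => by simp [h2]) (fun i => by simp [h1'])
      (fun i => by simp [h2']))
  · obtain ⟨s, e, w, rfl, h, h1, h2⟩ := hx
    obtain ⟨s', e', w', rfl, h', h1', h2'⟩ := hy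
    exact MonoidHom.map_isConj _ (isConj_of_fam h h' (sgn ((k : ℕ) + 1)) (fun _ => 0) (fun _ => 0)
      (sgn ((k : ℕ) + 1)) (fun i => by simp [h1]) (fun i => by simp [h2]) (fun i => by simp [h1'])
      (fun i => by simp [h2']))

/-- A signed hyperbolic basis can be sorted. -/
theorem exists_sorted {ι : Type} [Fintype ι] (hc : Fintype.card ι = d) (p : ι → Prop)
    [DecidablePred p] :
    ∃ σ : Fin d ≃ ι, ∀ i, p (σ i) ↔ (i : ℕ) < Fintype.card {a // p a} := by
  classical
  set k := Fintype.card {a // p a} with hk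
  have hkd : k ≤ d := hc ▸ Fintype.card_subtype_le _
  have h1 : Fintype.card {i : Fin d // (i : ℕ) < k} = k := by
    rw [Fintype.card_congr (Fin.castLEquiv hkd).symm, Fintype.card_fin]
  have h2 : Fintype.card {i : Fin d // ¬ (i : ℕ) < k} = Fintype.card {a // ¬ p a} := by
    rw [Fintype.card_subtype_compl, Fintype.card_subtype_compl, h1, Fintype.card_fin, hc, hk]
  let eA : {i : Fin d // (i : ℕ) < k} ≃ {a // p a} := Fintype.equivOfCardEq h1
  let eB : {i : Fin d // ¬ (i : ℕ) < k} ≃ {a // ¬ p a} := Fintype.equivOfCardEq h2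
  refine ⟨(Equiv.sumCompl _).symm.trans ((Equiv.sumCongr eA eB).trans (Equiv.sumCompl p)),
    fun i => ?_⟩
  by_cases hi : (i : ℕ) < k
  · simp [Equiv.sumCompl_symm_apply_of_pos hi, hi, (eA ⟨i, hi⟩).2]
  · simp [Equiv.sumCompl_symm_apply_of_neg hi, hi, (eB ⟨i, hi⟩).2]

theorem exists_key [Finite F] (h2 : (2 : F) ≠ 0) (hd : 0 < d) {x : Cfsg.PSp d F}
    (hx : orderOf x = 2) : ∃ k, HasKey x k := by
  classical
  obtain ⟨s, rfl⟩ := QuotientGroup.mk'_surjective _ x
  have hs1 : s ∉ Subgroup.center Sp := fun h => by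
    rw [show QuotientGroup.mk' (Subgroup.center Sp) s = 1 from (QuotientGroup.eq_one_iff s).2 h,
      orderOf_one] at hx
    omega
  have hs2 : s ^ 2 ∈ Subgroup.center Sp := by
    refine (QuotientGroup.eq_one_iff _).1 ?_
    rw [QuotientGroup.mk_pow, ← hx]
    exact pow_orderOf_eq_one _
  obtain ⟨z, hz⟩ : ∃ z : F, (z = 1 ∨ z = -1) ∧ ((s ^ 2 : Sp) : Matrix (Fin d ⊕ Fin d) (Fin d ⊕ Fin d) F) =
      z • (1 : Matrix (Fin d ⊕ Fin d) (Fin d ⊕ Fin d) F) := by
    rcases GLOrder.center_Sp.1 hs2 with h | h
    · exact ⟨1, Or.inl rfl, by rw [h, one_smul]⟩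
    · exact ⟨-1, Or.inr rfl, by rw [h, neg_one_smul]⟩
  obtain ⟨-, hgg, φ, hspan⟩ := SympInvolution.exists_frame_matrix hd s z hz.2
  replace hz := hz.1
  have hA : (Bs).IsAlt := sympBilin_alt
  have hcard : Fintype.card φ.ι = d := by
    have hb := Module.finrank_eq_card_basis (Module.Basis.mk (φ.linearIndependent hA) hspan.ge)
    rw [Module.finrank_fintype_fun_eq_card] at hb
    simp only [Fintype.card_sum, Fintype.card_fin] at hb
    omega
  obtain ⟨hπ, hz1, hzm⟩ := φ.shape h2
  have hew : ∀ i j, Bs (φ.e i) (φ.w j) = if i = j then 1 else 0 := fun i j => by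
    split_ifs with h
    · rw [h, φ.ew_self]
    · exact φ.ew i j h
  have hBg : ∀ u v, Bs (act s u) (act s v) = Bs u v := fun u v => by
    simp only [SympInvolution.sympBilin_apply, act, Matrix.toLin'_apply]
    exact Linear.mem_symplecticGroup_iff.mp s.2 u v
  have hgg' : ∀ v, act s (act s v) = z • v := hgg
  rcases hz with rfl | rfl
  · -- eigenvalues `±1`
    have hcoef : ∀ i, ∃ a : F, (a = 1 ∨ a = -1) ∧ act s (φ.e i) = a • φ.e i ∧
        act s (φ.w i) = a • φ.w i := by
      intro i
      obtain ⟨a, ha⟩ := Submodule.mem_span_singleton.1 (hz1 rfl i).1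
      obtain ⟨b, hb⟩ := Submodule.mem_span_singleton.1 (hz1 rfl i).2
      change a • φ.e i = act s (φ.e i) at ha
      change b • φ.w i = act s (φ.w i) at hb
      have he : a * a = 1 := by
        have h := congrArg (fun v => Bs v (φ.w i)) (hgg' (φ.e i))
        simp only [← ha, map_smul, LinearMap.smul_apply, one_smul, smul_eq_mul, φ.ew_self] at h
        linear_combination h
      have hab : a * b = 1 := by
        have h := hBg (φ.e i) (φ.w i)
        simp only [← ha, ← hb, map_smul, LinearMap.smul_apply, smul_eq_mul, φ.ew_self] at h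
        linear_combination h
      have hba : b = a := by linear_combination (-b) * he + a * hab
      exact ⟨a, mul_self_eq_one_iff.1 he, ha.symm, by rw [← hba]; exact hb.symm⟩
    choose a ha hae haw using hcoef
    obtain ⟨σ, hσ⟩ := exists_sorted hcard (fun i => a i = -1)
    set k := Fintype.card {i // a i = -1} with hk
    have hkd : k ≤ d := hcard ▸ Fintype.card_subtype_le _
    have hσa : ∀ i, a (σ i) = sgn k i := by
      intro i
      simp only [sgn]
      split_ifs with h
      · exact (hσ i).2 h
      · exact (ha (σ i)).resolve_right fun h' => h ((hσ i).1 h')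
    have hfam : ∀ τ : Fin d ≃ φ.ι, SympFam (fun i => φ.e (τ i)) (fun i => φ.w (τ i)) := fun τ =>
      ⟨fun i j => φ.ee _ _, fun i j => φ.ww _ _, fun i j => by
        rw [hew]; simp [τ.injective.eq_iff]⟩
    have hk0 : k ≠ 0 := by
      intro h
      refine hs1 (GLOrder.center_Sp.2 (Or.inl ?_))
      apply (Matrix.toLin' (R := F) (m := Fin d ⊕ Fin d) (n := Fin d ⊕ Fin d)).injective
      rw [Matrix.toLin'_one]
      refine LinearMap.ext_on_range (v := Sum.elim φ.e φ.w) hspan ?_
      rintro (i | i)
      · obtain ⟨j, rfl⟩ := σ.surjective i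
        refine (hae (σ j)).trans ?_
        rw [hσa, sgn, if_neg (by omega), one_smul]; rfl
      · obtain ⟨j, rfl⟩ := σ.surjective i
        refine (haw (σ j)).trans ?_
        rw [hσa, sgn, if_neg (by omega), one_smul]; rfl
    have hkd' : k ≠ d := by
      intro h
      refine hs1 (GLOrder.center_Sp.2 (Or.inr ?_))
      apply (Matrix.toLin' (R := F) (m := Fin d ⊕ Fin d) (n := Fin d ⊕ Fin d)).injective
      rw [map_neg, Matrix.toLin'_one]
      refine LinearMap.ext_on_range (v := Sum.elim φ.e φ.w) hspan ?_
      rintro (i | i)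
      · obtain ⟨j, rfl⟩ := σ.surjective i
        refine (hae (σ j)).trans ?_
        rw [hσa, sgn, if_pos (by omega), neg_one_smul]; rfl
      · obtain ⟨j, rfl⟩ := σ.surjective i
        refine (haw (σ j)).trans ?_
        rw [hσa, sgn, if_pos (by omega), neg_one_smul]; rfl
    by_cases hsmall : k ≤ d / 2
    · refine ⟨some ⟨k - 1, by omega⟩, s, _, _, rfl, hfam σ, fun i => ?_, fun i => ?_⟩
      · simp only [show k - 1 + 1 = k by omega, ← hσa]; exact hae _
      · simp only [show k - 1 + 1 = k by omega, ← hσa]; exact haw _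
    · let t : Sp := ⟨-s.1, SymplecticGroup.neg_mem s.2⟩
      let τ : Fin d ≃ φ.ι := Fin.revPerm.trans σ
      have hτ : ∀ i, -a (τ i) = sgn (d - k - 1 + 1) i := by
        intro i
        simp only [τ, Equiv.trans_apply, hσa, sgn, Fin.revPerm_apply, Fin.val_rev]
        by_cases h : (i : ℕ) < d - k
        · rw [if_neg (by omega), if_pos (by omega)]
        · rw [if_pos (by omega), if_neg (by omega), neg_neg]
      have ht : ∀ v, act t v = -act s v := fun v => by
        simp [act, t, Matrix.neg_mulVec]
      refine ⟨some ⟨d - k - 1, by omega⟩, t, _, _, ?_, hfam τ, fun i => ?_, fun i => ?_⟩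
      · refine (QuotientGroup.eq (s := Subgroup.center Sp)).2 (GLOrder.center_Sp.2 (Or.inr ?_))
        have : t⁻¹ * s = t⁻¹ * t * ⟨-1, SymplecticGroup.neg_mem (one_mem _)⟩ := by
          rw [mul_assoc]; congr 1
          exact Subtype.ext (by simp [t])
        rw [this]; simp
      · simp only [← hτ, ht, hae, neg_smul]
      · simp only [← hτ, ht, haw, neg_smul]
  · -- square `-1`
    have hcoef : ∀ i, ∃ u v : V, u ∈ Submodule.span F {φ.e i, φ.w i} ∧
        v ∈ Submodule.span F {φ.e i, φ.w i} ∧ Bs u v = 1 ∧ act s u = v ∧ act s v = -u := by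
      intro i
      obtain ⟨a, ha⟩ := Submodule.mem_span_singleton.1 (hzm rfl i).1
      change a • φ.w i = act s (φ.e i) at ha
      have ha0 : a ≠ 0 := by
        intro h
        have h' := congrArg (fun v => Bs v (φ.w i)) (hgg' (φ.e i))
        simp only [← ha, h, zero_smul, map_zero, map_smul, LinearMap.smul_apply, φ.ew_self,
          LinearMap.zero_apply, smul_eq_mul] at h'
        norm_num at h'
      haveI := Fintype.ofFinite F
      open Polynomial in
      obtain ⟨x, y, hxy⟩ := FiniteField.exists_root_sum_quadratic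
        (f := Polynomial.C (1 : F) * Polynomial.X ^ 2)
        (g := Polynomial.C (1 : F) * Polynomial.X ^ 2 - Polynomial.C a⁻¹)
        (by rw [Polynomial.degree_C_mul_X_pow 2 one_ne_zero]; rfl)
        (by rw [Polynomial.degree_sub_C (by rw [Polynomial.degree_C_mul_X_pow 2 one_ne_zero]; norm_num),
              Polynomial.degree_C_mul_X_pow 2 one_ne_zero]; rfl)
        (FiniteField.odd_card_of_char_ne_two fun h => h2 (by
          have := ringChar.charP F
          have := CharP.cast_eq_zero F (ringChar F)
          rw [h] at this; exact_mod_cast this))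
      simp only [Polynomial.eval_mul, Polynomial.eval_sub, Polynomial.eval_C, Polynomial.eval_pow,
        Polynomial.eval_X, one_mul] at hxy
      have hxy' : (x ^ 2 + y ^ 2) * a = 1 := by
        rw [show x ^ 2 + y ^ 2 = a⁻¹ by linear_combination hxy, inv_mul_cancel₀ ha0]
      refine ⟨x • φ.e i + y • (a • φ.w i), x • (a • φ.w i) - y • φ.e i, ?_, ?_, ?_, ?_, ?_⟩
      · exact add_mem (Submodule.smul_mem _ _ (Submodule.subset_span (by simp)))
          (Submodule.smul_mem _ _ (Submodule.smul_mem _ _ (Submodule.subset_span (by simp))))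
      · exact sub_mem (Submodule.smul_mem _ _ (Submodule.smul_mem _ _ (Submodule.subset_span (by simp))))
          (Submodule.smul_mem _ _ (Submodule.subset_span (by simp)))
      · simp only [map_add, map_sub, map_smul, LinearMap.add_apply, LinearMap.smul_apply, smul_eq_mul,
          φ.ee, φ.ww, φ.ew_self, φ.we_self hA]
        linear_combination hxy'
      · rw [ha, map_add, map_smul, map_smul, hgg']
        simp [sub_eq_add_neg]
      · rw [ha, map_sub, map_smul, map_smul, hgg']
        simp only [neg_one_smul, smul_neg, neg_add, sub_eq_add_neg]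
    choose u v hu hv huv hsu hsv using hcoef
    have horth : ∀ i j, i ≠ j → ∀ p ∈ Submodule.span F {φ.e i, φ.w i},
        ∀ q ∈ Submodule.span F {φ.e j, φ.w j}, Bs p q = 0 := by
      intro i j hij p hp q hq
      obtain ⟨a, b, rfl⟩ := Submodule.mem_span_pair.1 hp
      obtain ⟨c, f, rfl⟩ := Submodule.mem_span_pair.1 hq
      simp [φ.ee, φ.ww, φ.ew i j hij, φ.we hA i j hij]
    let σ : Fin d ≃ φ.ι := (Fintype.equivFinOfCardEq hcard).symm
    refine ⟨none, s, fun i => u (σ i), fun i => v (σ i), rfl, ⟨fun i j => ?_, fun i j => ?_,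
      fun i j => ?_⟩, fun i => hsu _, fun i => hsv _⟩
    · by_cases h : i = j
      · rw [h]; exact hA _
      · exact horth _ _ (σ.injective.ne h) _ (hu _) _ (hu _)
    · by_cases h : i = j
      · rw [h]; exact hA _
      · exact horth _ _ (σ.injective.ne h) _ (hv _) _ (hv _)
    · by_cases h : i = j
      · rw [if_pos h, h]; exact huv _
      · rw [if_neg h]; exact horth _ _ (σ.injective.ne h) _ (hu _) _ (hv _)

end Cfsg.Agent.InvolCount
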